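import Groth.Agent.Lib.RhoShBig.Free
import Groth.Agent.Lib.Ref1.Frame
import Groth.Agent.Lib.HomSh.Coherent
import Groth.Agent.Lib.NumTau26.FibreFree
import Groth.Agent.Lib.OX.Exact
import Groth.Agent.Lib.AssPts.Primary
import Groth.Prelude.Def_StabCat

/-!
# Freeness of stalks from the closed fibres, and through filtrations
-/

set_option autoImplicit false
set_option linter.all false
set_option maxHeartbeats 1000000
set_option backward.isDefEq.respectTransparency false

universe u

open CategoryTheory CategoryTheory.Limits AlgebraicGeometry IsLocalRing TensorProduct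

noncomputable section

namespace GrothLib.FibreFree20

/-- **Flat, with free stalk on the fibre: free stalk.** -/
theorem free_stalk_of_fibre {P S : Scheme.{u}} (f : P ⟶ S) [Flat f] [LocallyOfFinitePresentation f]
    {F : P.Modules} (hfp : CohB1.IsFP F) (hfl : FlatMod.IsFlatOver f F) (s : S) (z : f.fiber s)
    (h : Module.Free ((f.fiber s).presheaf.stalk z)
      (((Scheme.Modules.pullback (f.fiberι s)).obj F).presheaf.stalk z)) :
    Module.Free (P.presheaf.stalk (f.fiberι s z)) (F.presheaf.stalk (f.fiberι s z)) := by
  haveI : F.IsQuasicoherent := by haveI := hfp; infer_instance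
  let y := f.fiberι s z
  obtain ⟨hsurj, hker⟩ := FibreFlat.fiberι_stalkMap f s z
  let A := S.presheaf.stalk (f y)
  let B := P.presheaf.stalk y
  let Q := (f.fiber s).presheaf.stalk z
  letI : Algebra A B := (f.stalkMap y).hom.toAlgebra
  haveI : IsLocalHom (algebraMap A B) := inferInstanceAs (IsLocalHom (f.stalkMap y).hom)
  letI : Algebra B Q := ((f.fiberι s).stalkMap z).hom.toAlgebra
  haveI : Module.Flat A B := Flat.stalkMap f y
  let M := F.presheaf.stalk y
  letI : Module A M := FlatMod.moduleStalkOver f F y
  haveI : IsScalarTower A B M := IsScalarTower.of_algebraMap_smul fun _ _ => rfl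
  haveI : Module.Flat A M := hfl y
  obtain ⟨U, hU, hyU, -⟩ :=
    exists_isAffineOpen_mem_and_subset (show y ∈ (⊤ : P.Opens) from trivial)
  haveI hMfp : Module.FinitePresentation B M := by
    letI := P.presheaf.algebra_section_stalk ⟨y, hyU⟩
    haveI := GrothLib.FlatFP.isLocalization_stalk_primeAt hU hyU
    letI : Module Γ(P, U) M := Module.compHom _ (P.presheaf.germ U y hyU).hom
    haveI : IsScalarTower Γ(P, U) B M := IsScalarTower.of_algebraMap_smul fun _ _ => rfl
    obtain ⟨g, hg, -⟩ := GrothLib.FlatFP.isLocalizedModule_germ F hU hyU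
    haveI := GrothLib.FlatFP.finitePresentation_sections F hfp hU
    exact FinitePresentation.of_isBaseChange g
      (IsLocalizedModule.isBaseChange (GrothLib.WeakAss.primeAt y hyU).primeCompl B g)
  let e : ((Scheme.Modules.pullback (f.fiberι s)).obj F).presheaf.stalk z ≃ₗ[Q] Q ⊗[B] M :=
    ((OX.pullStalkIso (f.fiberι s) z).app F).toLinearEquiv
  haveI : Module.Free Q (Q ⊗[B] M) := Module.Free.of_equiv e
  exact RhoShBig.free_of_fibre_free (A := A) (B := B) (F := Q)
    (GrothLib.FibreFlat.isEssFinitePresentation_stalkMap f y) hsurj hker M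

/-- An extension of free modules is free. -/
theorem free_of_exact {R : Type u} [CommRing R] (S : ShortComplex (ModuleCat.{u} R)) (hS : S.ShortExact)
    (h₁ : Module.Free R S.X₁) (h₃ : Module.Free R S.X₃) : Module.Free R S.X₂ := by
  obtain ⟨l, hl⟩ := Module.projective_lifting_property S.g.hom LinearMap.id hS.moduleCat_surjective_g
  refine Module.Free.of_equiv (M := S.X₁ × S.X₃) (LinearEquiv.ofBijective (S.f.hom.coprod l) ⟨?_, ?_⟩)
  · rw [injective_iff_map_eq_zero]
    rintro ⟨a, c⟩ h
    have h2 := congrArg S.g.hom h
    have h3 : S.g.hom (S.f.hom a) = 0 := ConcreteCategory.congr_hom S.zero a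
    have h4 : S.g.hom (l c) = c := LinearMap.congr_fun hl c
    simp only [LinearMap.coprod_apply, map_add, map_zero, h3, h4, zero_add] at h2
    subst h2
    simp only [LinearMap.coprod_apply, map_zero, add_zero] at h
    exact Prod.ext (hS.moduleCat_injective_f (h.trans (map_zero S.f.hom).symm)) rfl
  · intro b
    have h4 : S.g.hom (l (S.g.hom b)) = S.g.hom b := LinearMap.congr_fun hl _
    obtain ⟨a, ha⟩ := hS.exact.moduleCat_range_eq_ker.ge
      (show b - l (S.g.hom b) ∈ LinearMap.ker S.g.hom by rw [LinearMap.mem_ker, map_sub, h4, sub_self])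
    exact ⟨(a, S.g.hom b), by simp [ha]⟩

variable {X : Scheme.{u}} [IsLocallyNoetherian X]

/-- Free graded pieces give free stalks. -/
theorem free_stalk_of_filtration {E : X.Modules} (s : LTSeries (Subobject E))
    (hc : ∀ i : Fin s.length, Coh.IsCoh (StabCat.factor s i)) (hb : s.head = ⊥) (ht : s.last = ⊤) (x : X)
    (hgr : Module.Free (X.presheaf.stalk x) ((StabCat.grObj s).presheaf.stalk x)) :
    Module.Free (X.presheaf.stalk x) (E.presheaf.stalk x) := by
  classical
  let R := X.presheaf.stalk x
  haveI : Module.Free R ((OX.stalk x).obj (StabCat.grObj s)) := hgr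
  have hfac : ∀ i : Fin s.length, Module.Free R ((OX.stalk x).obj (StabCat.factor s i)) := by
    intro i
    let p : StabCat.grObj s ⟶ StabCat.factor s i :=
      Sigma.desc fun j => if h : j = i then eqToHom (by rw [h]) else 0
    have hp : Sigma.ι (fun j => StabCat.factor s j) i ≫ p = 𝟙 _ := by simp [p]
    let Q := (OX.stalk x).obj (StabCat.factor s i)
    have h2 : ((OX.stalk x).map p).hom ∘ₗ ((OX.stalk x).map (Sigma.ι (fun j => StabCat.factor s j) i)).hom =
        LinearMap.id := by
      rw [← ModuleCat.hom_comp, ← Functor.map_comp, hp, CategoryTheory.Functor.map_id]; rfl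
    haveI : Module.Projective R Q := Module.Projective.of_split _ _ h2
    haveI : Module.Finite R Q := by
      exact GrothLib.Primary.moduleFinite_stalk _ x (hc i)
    exact Module.free_of_flat_of_isLocalRing
  have hall : ∀ j : Fin (s.length + 1), Module.Free R ((OX.stalk x).obj ((s j : Subobject E) : X.Modules)) := by
    intro j
    induction j using Fin.induction with
    | zero =>
      have hz : IsZero ((s 0 : Subobject E) : X.Modules) := by
        rw [show s 0 = ⊥ from hb]
        exact (isZero_zero _).of_iso Subobject.botCoeIsoZero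
      haveI : Subsingleton ((OX.stalk x).obj ((s 0 : Subobject E) : X.Modules)) :=
        ModuleCat.subsingleton_of_isZero ((OX.stalk x).map_isZero hz)
      exact Module.Free.of_subsingleton R _
    | succ i ih =>
      let a := Subobject.ofLE (s i.castSucc) (s i.succ) (le_of_lt (s.step i))
      have hS : (ShortComplex.mk a (cokernel.π a) (cokernel.condition a)).ShortExact :=
        { exact := ShortComplex.exact_of_g_is_cokernel _ (cokernelIsCokernel a) }
      exact free_of_exact _ (hS.map_of_exact (OX.stalk x)) ih (hfac i)
  have hlast := hall (Fin.last s.length)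
  haveI : IsIso (s (Fin.last s.length)).arrow := (Subobject.isIso_arrow_iff_eq_top _).2 ht
  haveI := hlast
  exact Module.Free.of_equiv ((OX.stalk x).mapIso (asIso (s (Fin.last s.length)).arrow)).toLinearEquiv

end GrothLib.FibreFree20

end
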